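import Groth.Agent.VarDim.Catenary
import Groth.Agent.NormCurve.Nagata
import Groth.Agent.NagataLib.Field
import Groth.Agent.CotTLib.SmoothField
import Groth.Agent.S11652
import Mathlib.RingTheory.DedekindDomain.Basic
import Mathlib.RingTheory.Ideal.GoingUp
import Mathlib.RingTheory.Nullstellensatz

/-!
# A smooth curve through a rational point avoiding a hypersurface
-/

universe u

set_option autoImplicit false
set_option linter.style.haveILetI false
set_option maxHeartbeats 400000

open Order

namespace Groth.Agent.GeoSmooth29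

variable {k A : Type u} [Field k] [CommRing A] [IsDomain A] [Algebra k A] [Algebra.FiniteType k A]

include k in
theorem exists_prime_dim_one_notMem (m : Ideal A) [m.IsMaximal] (hm : m ≠ ⊥) (g : A) (hg : g ≠ 0) :
    ∃ q : Ideal A, q.IsPrime ∧ q ≤ m ∧ g ∉ q ∧ ringKrullDim (A ⧸ q) = 1 := by
  haveI : IsNoetherianRing A := Algebra.FiniteType.isNoetherianRing k A
  obtain ⟨q, ⟨hq, hqm, hgq⟩, hmax⟩ := set_has_maximal_iff_noetherian.2 ‹_›
    {q : Ideal A | q.IsPrime ∧ q < m ∧ g ∉ q}
    ⟨⊥, Ideal.isPrime_bot, bot_lt_iff_ne_bot.2 hm, fun h => hg (by simpa using h)⟩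
  let Q : PrimeSpectrum A := ⟨q, hq⟩
  let M : PrimeSpectrum A := ⟨m, inferInstance⟩
  have hcov : Q ⋖ M := by
    refine ⟨hqm, fun S hQS hSM => ?_⟩
    have hgS : g ∈ S.asIdeal := by
      by_contra h
      exact hmax S.asIdeal ⟨S.isPrime, hSM, h⟩ hQS
    have hgm : g ∈ m := hSM.le hgS
    have hht : 1 < (m.map (Ideal.Quotient.mk q)).height := by
      have hS : q ≤ S.asIdeal := hQS.le
      haveI : (S.asIdeal.map (Ideal.Quotient.mk q)).IsPrime :=
        Ideal.map_isPrime_of_surjective Ideal.Quotient.mk_surjective (by rw [Ideal.mk_ker]; exact hS)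
      haveI : (m.map (Ideal.Quotient.mk q)).IsPrime :=
        Ideal.map_isPrime_of_surjective Ideal.Quotient.mk_surjective (by rw [Ideal.mk_ker]; exact hqm.le)
      have hinj : ∀ I J : Ideal A, q ≤ I → q ≤ J →
          I.map (Ideal.Quotient.mk q) = J.map (Ideal.Quotient.mk q) → I = J := by
        intro I J hI hJ h
        have h2 := congrArg (Ideal.comap (Ideal.Quotient.mk q)) h
        rwa [Ideal.comap_map_of_surjective _ Ideal.Quotient.mk_surjective,
          Ideal.comap_map_of_surjective _ Ideal.Quotient.mk_surjective, ← RingHom.ker_eq_comap_bot,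
          Ideal.mk_ker, sup_eq_left.2 hI, sup_eq_left.2 hJ] at h2
      have h1 : (⊥ : Ideal (A ⧸ q)) < S.asIdeal.map (Ideal.Quotient.mk q) := by
        refine bot_lt_iff_ne_bot.2 fun h => hQS.ne ?_
        refine PrimeSpectrum.ext (hinj _ _ le_rfl hS ?_)
        rw [h]
        exact Ideal.map_quotient_self q
      have h2 : S.asIdeal.map (Ideal.Quotient.mk q) < m.map (Ideal.Quotient.mk q) := by
        refine lt_of_le_of_ne (Ideal.map_mono hSM.le) fun h => hSM.ne ?_
        exact PrimeSpectrum.ext (hinj _ _ hS hqm.le h)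
      calc (1 : ℕ∞) ≤ (S.asIdeal.map (Ideal.Quotient.mk q)).height := by
            rw [Order.one_le_iff_pos]
            exact lt_of_le_of_lt bot_le (Ideal.height_strict_mono_of_isPrime h1)
        _ < _ := Ideal.height_strict_mono_of_isPrime h2
    obtain ⟨t, ht, hqt, htm, hgt⟩ := S11652.result A q m hqm hht g hgm hgq
    exact hmax t ⟨ht, htm, hgt⟩ hqt
  refine ⟨q, hq, hqm.le, hgq, ?_⟩
  rw [← VarDim.coheight_eq_ringKrullDim_quotient Q, VarDim.coheight_of_covBy k hcov]
  have h0 : coheight M = 0 := coheight_eq_zero.2 fun S hS => by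
    show S.asIdeal ≤ m
    exact ((‹m.IsMaximal›).eq_of_le S.isPrime.ne_top hS).ge
  rw [h0, zero_add]
  rfl

theorem exists_smooth_curve_avoid [IsAlgClosed k] (ev : A →ₐ[k] k) (hm : RingHom.ker ev ≠ ⊥)
    (g : A) (hg : g ≠ 0) :
    ∃ (B : Type u) (_ : CommRing B) (_ : IsDomain B) (_ : Algebra k B) (φ : A →ₐ[k] B)
      (e : B →ₐ[k] k), Algebra.Smooth k B ∧ ringKrullDim B = 1 ∧ e.comp φ = ev ∧ φ g ≠ 0 := by
  have hsurj : Function.Surjective ev := fun c => ⟨algebraMap k A c, ev.commutes c⟩
  haveI hmax : (RingHom.ker ev).IsMaximal := RingHom.ker_isMaximal_of_surjective ev hsurj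
  obtain ⟨q, hq, hqm, hgq, hdim⟩ := exists_prime_dim_one_notMem (k := k) (RingHom.ker ev) hm g hg
  let D := A ⧸ q
  let L := FractionRing D
  let B := integralClosure D L
  haveI : Algebra.FiniteType k D := inferInstanceAs (Algebra.FiniteType k (A ⧸ q))
  haveI : Module.Finite D B :=
    NormCurve.finite_integralClosure_of_nagata (NagataLib.isNagata_of_finiteType k D) L
  haveI : Algebra.FiniteType k B := Algebra.FiniteType.trans (S := D) inferInstance inferInstance
  haveI : IsNoetherianRing B := Algebra.FiniteType.isNoetherianRing k B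
  haveI : Algebra.IsIntegral D B := inferInstance
  haveI : FaithfulSMul D B := (faithfulSMul_iff_algebraMap_injective D B).2 fun a b h =>
    IsFractionRing.injective D L (congrArg Subtype.val h)
  have hdimB : ringKrullDim B = 1 := (VarDim.ringKrullDim_eq_of_isIntegral (R := D) (S := B)).trans hdim
  haveI : IsIntegrallyClosed B := integralClosure.isIntegrallyClosedOfFiniteExtension L (L := L)
  haveI : Ring.KrullDimLE 1 B := (Ring.krullDimLE_iff).2 hdimB.le
  haveI : Ring.DimensionLEOne B := ⟨fun {p} hp hpp =>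
    (Ring.krullDimLE_one_iff_of_noZeroDivisors.1 inferInstance) p hp hpp⟩
  haveI : IsDedekindDomain B := {}
  have hsm : Algebra.Smooth k B := CotTLib.smooth_of_isSmoothAt_maximal fun m _ =>
    CotTLib.isSmoothAt_of_isRegularLocalRing m (IsRegularRing.isRegularLocalRing_localization m)
  let mD : Ideal D := (RingHom.ker ev).map (Ideal.Quotient.mk q)
  have hcomap : mD.comap (Ideal.Quotient.mk q) = RingHom.ker ev := by
    rw [Ideal.comap_map_of_surjective _ Ideal.Quotient.mk_surjective, ← RingHom.ker_eq_comap_bot,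
      Ideal.mk_ker, sup_eq_left.2 hqm]
  haveI : mD.IsMaximal := (Ideal.map_eq_top_or_isMaximal_of_surjective _ Ideal.Quotient.mk_surjective
    hmax).resolve_left fun h => hmax.ne_top (by rw [← hcomap]; exact (congrArg _ h).trans (Ideal.comap_top))
  obtain ⟨n, hn, hnD⟩ := Ideal.exists_ideal_over_maximal_of_isIntegral (S := B) mD
    (by
      rw [(RingHom.injective_iff_ker_eq_bot _).1 (FaithfulSMul.algebraMap_injective D B)]
      exact bot_le)
  haveI : Algebra.FiniteType k (B ⧸ n) := inferInstance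
  letI : Field (B ⧸ n) := Ideal.Quotient.field n
  haveI : Module.Finite k (B ⧸ n) := finite_of_finite_type_of_isJacobsonRing k _
  let E : k ≃ₐ[k] (B ⧸ n) := AlgEquiv.ofBijective (Algebra.ofId k _)
    ⟨(algebraMap k (B ⧸ n)).injective, IsAlgClosed.algebraMap_bijective_of_isIntegral.2⟩
  let e : B →ₐ[k] k := E.symm.toAlgHom.comp (Ideal.Quotient.mkₐ k n)
  let φ : A →ₐ[k] B := (IsScalarTower.toAlgHom k D B).comp (Ideal.Quotient.mkₐ k q)
  refine ⟨B, inferInstance, inferInstance, inferInstance, φ, e, hsm, hdimB, ?_, ?_⟩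
  · refine AlgHom.ext fun a => ?_
    have key : ∀ b, ev b = 0 → e (φ b) = 0 := fun b hb => by
      have h1 : Ideal.Quotient.mk q b ∈ mD := Ideal.mem_map_of_mem _ hb
      rw [← hnD] at h1
      show E.symm (Ideal.Quotient.mkₐ k n (φ b)) = 0
      rw [show Ideal.Quotient.mkₐ k n (φ b) = 0 from Ideal.Quotient.eq_zero_iff_mem.2 h1, map_zero]
    have h := key (a - algebraMap k A (ev a)) (by simp)
    rw [map_sub, map_sub, AlgHom.commutes, AlgHom.commutes, sub_eq_zero] at h
    exact h
  · intro h
    have h1 : Ideal.Quotient.mk q g = 0 :=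
      FaithfulSMul.algebraMap_injective D B (h.trans (map_zero _).symm)
    exact hgq (Ideal.Quotient.eq_zero_iff_mem.1 h1)

end Groth.Agent.GeoSmooth29
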