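import Mathlib.AlgebraicGeometry.Morphisms.LocalFlatDescent
import Mathlib.AlgebraicGeometry.Fiber
import Mathlib.AlgebraicGeometry.Morphisms.Smooth

/-!
# Smoothness of a fibre and field-valued points
-/

set_option autoImplicit false
set_option linter.style.haveILetI false
set_option backward.isDefEq.respectTransparency.types false

universe u

open CategoryTheory CategoryTheory.Limits AlgebraicGeometry

namespace Groth.Agent.GeoSmooth29

variable {X Y : Scheme.{u}} (f : X ⟶ Y) {K : Type u} [Field K]

theorem exists_factor (a : Spec (CommRingCat.of K) ⟶ Y) :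
    ∃ a' : Spec (CommRingCat.of K) ⟶ Spec (Y.residueField (a (IsLocalRing.closedPoint K))),
      a' ≫ Y.fromSpecResidueField _ = a :=
  ⟨_, Scheme.descResidueField_stalkClosedPointTo_fromSpecResidueField K Y a⟩

theorem smooth_fiber_iff (a : Spec (CommRingCat.of K) ⟶ Y) :
    Smooth (f.fiberToSpecResidueField (a (IsLocalRing.closedPoint K))) ↔ Smooth (pullback.snd f a) := by
  obtain ⟨a', ha⟩ := exists_factor a
  haveI : Flat a' := by infer_instance
  haveI : Surjective a' := by infer_instance
  haveI : QuasiCompact a' := by infer_instance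
  let y := a (IsLocalRing.closedPoint K)
  let ψ : pullback f a ⟶ f.fiber y :=
    pullback.lift (pullback.fst f a) (pullback.snd f a ≫ a')
      (by rw [Category.assoc, ha, pullback.condition])
  have hψ : IsPullback ψ (pullback.snd f a) (f.fiberToSpecResidueField y) a' := by
    refine IsPullback.of_right ?_ (pullback.lift_snd _ _ _) (IsPullback.of_hasPullback f (Y.fromSpecResidueField y))
    rw [show ψ ≫ pullback.fst f (Y.fromSpecResidueField y) = pullback.fst f a from pullback.lift_fst _ _ _, ha]
    exact IsPullback.of_hasPullback f a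
  refine ⟨fun h => MorphismProperty.of_isPullback hψ h, fun h => ?_⟩
  exact MorphismProperty.of_isPullback_of_descendsAlong (P := @Smooth)
    (Q := @Surjective ⊓ @Flat ⊓ @QuasiCompact) hψ.flip ⟨⟨inferInstance, inferInstance⟩, inferInstance⟩ h

theorem smooth_fiber_of_eq {y : Y} (a : Spec (CommRingCat.of K) ⟶ Y)
    (hy : a (IsLocalRing.closedPoint K) = y) (h : Smooth (pullback.snd f a)) :
    Smooth (f.fiberToSpecResidueField y) := by
  subst hy
  exact (smooth_fiber_iff f a).2 h

end Groth.Agent.GeoSmooth29
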