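import Groth.Agent.ConsPropLib.Approx
import Groth.Agent.ConsPropLib.CoreProper
import Groth.Agent.ConsPropLib.NoethApprox
import Groth.Agent.LimSm.Flat
import Groth.Agent.MorLib.Descend
import Mathlib.RingTheory.Adjoin.FG

/-!
# Proper flat models over finitely generated subalgebras
-/

set_option autoImplicit false
set_option linter.style.haveILetI false
set_option backward.isDefEq.respectTransparency false
set_option backward.isDefEq.respectTransparency.types false
set_option maxHeartbeats 400000

universe u

open CategoryTheory CategoryTheory.Limits AlgebraicGeometry Opposite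

namespace Groth.Agent.GeoSmooth29

open Groth.Agent Groth.Agent.MorLib Groth.Agent.ConsPropLib

theorem exists_flat_proper_model {k R : Type u} [Field k] [CommRing R] [Algebra k R] {P : Scheme.{u}}
    (p : P ⟶ Spec (CommRingCat.of R)) [Flat p] [IsProper p] [LocallyOfFinitePresentation p] (t : R) :
    ∃ (A : Subalgebra k R) (_ : A.FG) (_ : t ∈ A) (PA : Scheme.{u})
      (pA : PA ⟶ Spec (CommRingCat.of A)) (g : P ⟶ PA),
      IsProper pA ∧ Flat pA ∧ LocallyOfFinitePresentation pA ∧
        IsPullback g p pA (Spec.map (CommRingCat.ofHom A.val.toRingHom)) := by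
  classical
  let D := NoethApprox.diagram (CommRingCat.of R)
  let c : Cone D := NoethApprox.cone (CommRingCat.of R)
  have hc : IsLimit c := NoethApprox.isLimit (CommRingCat.of R)
  haveI : ∀ {i j} (a : i ⟶ j), IsAffineHom (D.map a) := fun a => NoethApprox.isAffineHom_map _ a
  haveI : ∀ i, IsAffine (D.obj i) := fun i => NoethApprox.isAffine_obj _ i
  let pc : P ⟶ c.pt := p
  haveI : LocallyOfFinitePresentation pc := ‹LocallyOfFinitePresentation p›
  haveI : IsProper pc := ‹IsProper p›
  haveI : Flat pc := ‹Flat p›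
  obtain ⟨m, X₁, fm, gm, hm⟩ := hasModel hc pc
  haveI := hm.qc
  haveI := hm.qs
  haveI := hm.lfp
  obtain ⟨i, ψ, hi⟩ := Desc.descend D c hc m (P := @IsProper) (Q := @LocallyOfFinitePresentation)
    ConsPropLib.core_isProper fm hm.lfp
    (Desc.of_two @IsProper hm.sq (IsPullback.of_hasPullback _ _) ‹IsProper pc›)
  have hM := hm.pushed ψ
  haveI := hM.qc
  haveI := hM.qs
  haveI := hM.lfp
  obtain ⟨j, χ, hj⟩ := Desc.descend D c hc i (P := @Flat) (Q := @LocallyOfFinitePresentation)
    LimSm.core_flat (pullback.snd fm (D.map ψ)) hM.lfp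
    (Desc.of_two @Flat hM.sq (IsPullback.of_hasPullback _ _) ‹Flat pc›)
  have hN := hM.pushed χ
  let fi := pullback.snd fm (D.map ψ)
  haveI : IsProper fi := hi
  let fj := pullback.snd fi (D.map χ)
  haveI : IsProper fj := inferInstance
  haveI : Flat fj := hj
  haveI : LocallyOfFinitePresentation fj := hN.lfp
  let T : Finset R := insert t (j.unop : Finset R)
  let A : Subalgebra k R := Algebra.adjoin k (T : Set R)
  let B := Algebra.adjoin ℤ ((j.unop : Finset R) : Set R)
  have hBA : ∀ x : B, (x : R) ∈ A := fun x =>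
    (Algebra.adjoin_le (S := A.restrictScalars ℤ) fun y hy =>
      Algebra.subset_adjoin (Finset.mem_coe.2 (Finset.mem_insert_of_mem hy))) x.2
  let ι : B →+* A := B.val.toRingHom.codRestrict A hBA
  let b : Spec (CommRingCat.of A) ⟶ D.obj j := Spec.map (CommRingCat.ofHom ι)
  have hb : Spec.map (CommRingCat.ofHom A.val.toRingHom) ≫ b = c.π.app j := by
    show Spec.map (CommRingCat.ofHom A.val.toRingHom) ≫ Spec.map (CommRingCat.ofHom ι) = _
    rw [← Spec.map_comp]
    rfl
  let g : P ⟶ pullback fj b :=
    pullback.lift (hM.push χ) (p ≫ Spec.map (CommRingCat.ofHom A.val.toRingHom))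
      (by rw [Category.assoc, hb]; exact hN.sq.w)
  refine ⟨A, ⟨T, rfl⟩, Algebra.subset_adjoin (Finset.mem_coe.2 (Finset.mem_insert_self _ _)),
    pullback fj b, pullback.snd fj b, g, inferInstance, inferInstance, inferInstance, ?_⟩
  refine IsPullback.of_right ?_ (pullback.lift_snd _ _ _) (IsPullback.of_hasPullback fj b)
  rw [pullback.lift_fst, hb]
  exact hN.sq

end Groth.Agent.GeoSmooth29
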